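import Mathlib.RingTheory.Etale.Locus
import Mathlib.RingTheory.Etale.Descent
import Mathlib.RingTheory.Localization.BaseChange
import Mathlib.RingTheory.Flat.FaithfullyFlat.Algebra
import Mathlib.RingTheory.Spectrum.Prime.Chevalley

/-!
# Etale models of flat ring epimorphisms after a faithfully flat covering

If `A → B` is flat and `B → B ⊗ B` is etale then near each prime in the image `B` maps isomorphically,
after tensoring with `B`, from an etale algebra over a localization of `A`.
-/

set_option autoImplicit false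

universe u

open TensorProduct

namespace Groth.Agent.FlatMono

section Loc

variable {A : Type u} [CommRing A] {S : Submonoid A}

theorem isLocalizedModule_lTensor (P : Type u) [AddCommGroup P] [Module A P] {M M' : Type u} [AddCommGroup M]
    [Module A M] [AddCommGroup M'] [Module A M'] (g : M →ₗ[A] M') [IsLocalizedModule S g] :
    IsLocalizedModule S (g.lTensor P) := by
  let e₀ := IsLocalizedModule.linearEquiv S (TensorProduct.mk A (Localization S) M 1) g
  let e : Localization S ⊗[A] (P ⊗[A] M) ≃ₗ[A] P ⊗[A] M' :=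
    TensorProduct.leftComm A (Localization S) P M ≪≫ₗ e₀.lTensor P
  have h := IsLocalizedModule.of_linearEquiv S (TensorProduct.mk A (Localization S) (P ⊗[A] M) 1) e
  convert h
  ext p m
  simp [e, e₀]
  exact congrArg (p ⊗ₜ[A] ·) (IsLocalizedModule.linearEquiv_apply S (TensorProduct.mk A (Localization S) M 1) g m).symm

variable {M N M' N' : Type u} [AddCommGroup M] [Module A M] [AddCommGroup N] [Module A N] [AddCommGroup M']
  [Module A M'] [AddCommGroup N'] [Module A N'] (g : M →ₗ[A] M') (h : N →ₗ[A] N')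
  [IsLocalizedModule S g] [IsLocalizedModule S h] {ψ : M →ₗ[A] N} {ψ' : M' →ₗ[A] N'}

theorem torsion_of_bijective (w : ψ' ∘ₗ g = h ∘ₗ ψ) (hb : Function.Bijective ψ') :
    (∀ y : N, ∃ s : S, s • y ∈ LinearMap.range ψ) ∧ ∀ z : M, ψ z = 0 → ∃ s : S, s • z = 0 := by
  refine ⟨fun y => ?_, fun z hz => ?_⟩
  · obtain ⟨x, hx⟩ := hb.2 (h y)
    obtain ⟨⟨v, s⟩, hv⟩ := IsLocalizedModule.surj S g x
    have e : h (ψ v) = h (s • y) := by
      rw [← LinearMap.comp_apply, ← w, LinearMap.comp_apply, ← hv]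
      simp [Submonoid.smul_def, hx]
    obtain ⟨c, hc⟩ := IsLocalizedModule.exists_of_eq (S := S) e
    exact ⟨c * s, c • v, by rw [mul_smul, ← hc, Submonoid.smul_def, Submonoid.smul_def, map_smul]⟩
  · have e : g z = g 0 := hb.1 (by rw [map_zero, map_zero, ← LinearMap.comp_apply, w, LinearMap.comp_apply, hz, map_zero])
    obtain ⟨c, hc⟩ := IsLocalizedModule.exists_of_eq (S := S) e
    exact ⟨c, by rwa [smul_zero] at hc⟩

theorem surjective_of_torsion (w : ψ' ∘ₗ g = h ∘ₗ ψ) (h₁ : ∀ y : N, ∃ s : S, s • y ∈ LinearMap.range ψ) :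
    Function.Surjective ψ' := fun y => by
  obtain ⟨⟨v, s⟩, hv⟩ := IsLocalizedModule.surj S h y
  obtain ⟨c, v', hv'⟩ := h₁ v
  obtain ⟨x, hx⟩ : ∃ x, (c * s) • x = g v' :=
    ⟨IsLocalizedModule.mk' g v' (c * s), IsLocalizedModule.mk'_cancel' g v' (c * s)⟩
  refine ⟨x, IsLocalizedModule.smul_injective h (c * s) ?_⟩
  show (c * s) • ψ' x = (c * s) • y
  rw [Submonoid.smul_def, ← map_smul, ← Submonoid.smul_def, hx, ← LinearMap.comp_apply, w, LinearMap.comp_apply,
    hv', mul_smul, hv, Submonoid.smul_def, map_smul, Submonoid.smul_def]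

-- A kernel element of the localized map is killed when the unlocalized kernel is torsion.
include S in
theorem exists_smul_eq_zero {T : Submonoid A} (w : ψ' ∘ₗ g = h ∘ₗ ψ)
    (h₂ : ∀ z : M, ψ z = 0 → ∃ t : T, t • z = 0) {x : M'} (hx : ψ' x = 0) : ∃ t : T, t • x = 0 := by
  obtain ⟨⟨v, s⟩, hv⟩ := IsLocalizedModule.surj S g x
  have e : h (ψ v) = h 0 := by
    rw [← LinearMap.comp_apply, ← w, LinearMap.comp_apply, ← hv, map_zero]
    simp [Submonoid.smul_def, hx]
  obtain ⟨c, hc⟩ := IsLocalizedModule.exists_of_eq (S := S) e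
  rw [smul_zero, Submonoid.smul_def, ← map_smul] at hc
  obtain ⟨d, hd⟩ := h₂ _ hc
  refine ⟨d, IsLocalizedModule.smul_injective g (c * s) ?_⟩
  show (c * s) • (d • x) = (c * s) • (0 : M')
  simp only [Submonoid.smul_def, Submonoid.coe_mul, smul_zero] at hd hv ⊢
  rw [smul_comm, mul_smul, hv, ← map_smul, ← map_smul, hd, map_zero]

theorem bijective_of_torsion (w : ψ' ∘ₗ g = h ∘ₗ ψ) (h₁ : ∀ y : N, ∃ s : S, s • y ∈ LinearMap.range ψ)
    (h₂ : ∀ z : M, ψ z = 0 → ∃ s : S, s • z = 0) : Function.Bijective ψ' := by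
  refine ⟨(injective_iff_map_eq_zero ψ').2 fun x hx => ?_, surjective_of_torsion g h w h₁⟩
  obtain ⟨t, ht⟩ := exists_smul_eq_zero (S := S) g h w h₂ hx
  exact IsLocalizedModule.smul_injective g t (by simpa using ht)

end Loc

variable {A B : Type u} [CommRing A] [CommRing B] [Algebra A B]

instance isLocalizedModule_away (R : Type u) [CommRing R] [Algebra A R] (f : A) :
    IsLocalizedModule (Submonoid.powers f)
      (IsScalarTower.toAlgHom A R (Localization.Away (algebraMap A R f))).toLinearMap := by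
  refine isLocalizedModule_iff_isLocalization.2 ?_
  rw [Algebra.algebraMapSubmonoid_powers]
  infer_instance

/-- The map induced on localizations at one element of the base. -/
noncomputable def awayMap {C : Type u} [CommRing C] [Algebra A C] (φ : C →ₐ[A] B) (f : A) :
    Localization.Away (algebraMap A C f) →ₐ[A] Localization.Away (algebraMap A B f) :=
  IsLocalization.liftAlgHom (M := Submonoid.powers (algebraMap A C f))
    (f := (IsScalarTower.toAlgHom A B (Localization.Away (algebraMap A B f))).comp φ) fun y => by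
      obtain ⟨_, n, rfl⟩ := y
      simp only [AlgHom.comp_apply, map_pow, AlgHom.commutes]
      refine IsUnit.pow _ ?_
      rw [IsScalarTower.algebraMap_apply A B]
      exact IsLocalization.Away.algebraMap_isUnit (algebraMap A B f)

theorem awayMap_comp {C : Type u} [CommRing C] [Algebra A C] (φ : C →ₐ[A] B) (f : A) (c : C) :
    awayMap φ f (algebraMap C _ c) = algebraMap B (Localization.Away (algebraMap A B f)) (φ c) :=
  IsLocalization.lift_eq _ c

/-- The base change to a local ring of a point of the image is etale. -/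
theorem etale_localization [Module.Flat A B] [Algebra.Etale B (B ⊗[A] B)] (p : Ideal A) [p.IsPrime]
    (q : Ideal B) [q.IsPrime] (hq : q.comap (algebraMap A B) = p) :
    Algebra.Etale (Localization.AtPrime p) (Localization.AtPrime p ⊗[A] B) := by
  let L := Localization.AtPrime p
  let B' := L ⊗[A] B
  let _ : Algebra B B' := Algebra.TensorProduct.rightAlgebra
  have : Module.Flat L B' := Module.Flat.baseChange A L B
  have : Module.FaithfullyFlat L B' := by
    refine ⟨fun m hm htop => ?_⟩
    obtain rfl : m = IsLocalRing.maximalIdeal L := IsLocalRing.eq_maximalIdeal hm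
    let Q := Localization.AtPrime q
    have hl : IsLocalHom (Localization.localRingHom p q (algebraMap A B) hq.symm) :=
      Localization.isLocalHom_localRingHom ..
    let _ : Algebra L Q := (Localization.localRingHom p q (algebraMap A B) hq.symm).toAlgebra
    have : IsScalarTower A L Q := .of_algebraMap_eq fun a =>
      (IsScalarTower.algebraMap_apply A B Q a).trans (Localization.localRingHom_to_map p q _ hq.symm a).symm
    let χ : B' →ₐ[L] Q := Algebra.TensorProduct.lift (Algebra.ofId L Q) (IsScalarTower.toAlgHom A B Q)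
      fun _ _ => Commute.all _ _
    rw [Ideal.smul_top_eq_map, Submodule.restrictScalars_eq_top_iff] at htop
    have h' := congrArg (Ideal.map χ.toRingHom) htop
    rw [Ideal.map_map, Ideal.map_top, show χ.toRingHom.comp (algebraMap L B') = algebraMap L Q from
      χ.comp_algebraMap] at h'
    have hle : (IsLocalRing.maximalIdeal L).map (algebraMap L Q) ≤ IsLocalRing.maximalIdeal Q :=
      Ideal.map_le_iff_le_comap.2 fun x hx => fun hu => hx (hl.map_nonunit x hu)
    exact (IsLocalRing.maximalIdeal.isMaximal Q).ne_top (top_le_iff.1 (h' ▸ hle))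
  let e₁ : B' ⊗[B] (B ⊗[A] B) ≃ₐ[B'] B' ⊗[A] B := Algebra.TensorProduct.cancelBaseChange A B B' B' B
  let e₂ : B' ⊗[L] B' ≃ₐ[B'] B' ⊗[A] B := Algebra.TensorProduct.cancelBaseChange A L B' B' B
  have : Algebra.Etale B' (B' ⊗[L] B') := Algebra.Etale.of_equiv (A := B' ⊗[B] (B ⊗[A] B)) (e₁.trans e₂.symm)
  exact Algebra.Etale.of_etale_tensorProduct_of_faithfullyFlat B'

-- An algebra of finite presentation with the same base change to a localization.
attribute [local instance] MvPolynomial.algebraMvPolynomial in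
theorem exists_fp_model (S : Submonoid A) [Algebra.FinitePresentation (Localization S) (Localization S ⊗[A] B)] :
    ∃ (C : Type u) (_ : CommRing C) (_ : Algebra A C) (_ : Algebra.FinitePresentation A C) (φ : C →ₐ[A] B),
      Function.Bijective (φ.toLinearMap.lTensor (Localization S)) := by
  classical
  let L := Localization S
  let B' := L ⊗[A] B
  obtain ⟨G, hG⟩ := Algebra.FiniteType.out (R := L) (A := B')
  choose v hv using fun y : G => IsLocalizedModule.surj S (TensorProduct.mk A L B 1) y.1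
  let n := G.card
  let b : Fin n → B := fun i => (v (G.equivFin.symm i)).1
  let φ₀ : MvPolynomial (Fin n) A →ₐ[A] B := MvPolynomial.aeval b
  let Φ : MvPolynomial (Fin n) L →ₐ[L] B' := MvPolynomial.aeval fun i => 1 ⊗ₜ b i
  have hΦ : Function.Surjective Φ := by
    rw [← AlgHom.range_eq_top, eq_top_iff, ← hG, Algebra.adjoin_le_iff]
    intro y hy
    obtain ⟨s, hs⟩ : ∃ s : S, s • y = 1 ⊗ₜ[A] b (G.equivFin ⟨y, hy⟩) :=
      ⟨(v ⟨y, hy⟩).2, by simpa [b] using hv ⟨y, hy⟩⟩
    refine ⟨MvPolynomial.C (IsLocalization.mk' L 1 s) * MvPolynomial.X (G.equivFin ⟨y, hy⟩), ?_⟩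
    show Φ _ = y
    rw [map_mul, MvPolynomial.aeval_C, MvPolynomial.aeval_X, ← hs, Submonoid.smul_def,
      ← IsScalarTower.algebraMap_smul L (s : A) y, ← Algebra.smul_def, ← mul_smul, IsLocalization.mk'_spec, map_one,
      one_smul]
  obtain ⟨R, hR⟩ := Algebra.FinitePresentation.ker_fG_of_surjective Φ hΦ
  let ι : MvPolynomial (Fin n) A →ₐ[A] MvPolynomial (Fin n) L := MvPolynomial.mapAlgHom (Algebra.ofId A L)
  have hΦι : ∀ r, Φ (ι r) = 1 ⊗ₜ φ₀ r := fun r => by
    have : (Φ.restrictScalars A).comp ι = Algebra.TensorProduct.includeRight.comp φ₀ := by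
      refine MvPolynomial.algHom_ext fun i => ?_
      simp [ι, Φ, φ₀]
    exact AlgHom.congr_fun this r
  have : IsLocalization (S.map (MvPolynomial.C : A →+* MvPolynomial (Fin n) A)) (MvPolynomial (Fin n) L) :=
    MvPolynomial.isLocalization S L
  have hι : algebraMap (MvPolynomial (Fin n) A) (MvPolynomial (Fin n) L) = ι.toRingHom := by
    refine MvPolynomial.ringHom_ext (fun a => ?_) fun i => ?_ <;> simp [ι]
  have hr : ∀ r : R, ∃ r' : MvPolynomial (Fin n) A, φ₀ r' = 0 ∧
      ∃ w : MvPolynomial (Fin n) L, IsUnit w ∧ w * r.1 = ι r' := fun r => by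
    obtain ⟨⟨r₀, ⟨_, s, hs, rfl⟩⟩, hr₀⟩ := IsLocalization.surj
      (S.map (MvPolynomial.C : A →+* MvPolynomial (Fin n) A)) r.1
    have h0 : (TensorProduct.mk A L B 1) (φ₀ r₀) = (TensorProduct.mk A L B 1) 0 := by
      rw [map_zero, TensorProduct.mk_apply, ← hΦι, show ι r₀ = algebraMap _ _ r₀ from (congrArg (· r₀) hι).symm,
        ← hr₀, map_mul, show Φ r.1 = 0 from hR.le (Ideal.subset_span r.2), zero_mul]
    obtain ⟨c, hc⟩ := IsLocalizedModule.exists_of_eq (S := S) h0
    refine ⟨MvPolynomial.C (c : A) * r₀, ?_, algebraMap (MvPolynomial (Fin n) A) (MvPolynomial (Fin n) L) (MvPolynomial.C ((c : A) * s)), ?_, ?_⟩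
    · rw [map_mul, MvPolynomial.aeval_C, ← Algebra.smul_def]
      simpa [Submonoid.smul_def] using hc
    · exact IsLocalization.map_units _ (⟨_, c.1 * s, S.mul_mem c.2 hs, rfl⟩ : S.map (MvPolynomial.C : A →+* MvPolynomial (Fin n) A))
    · rw [map_mul (MvPolynomial.C : A →+* MvPolynomial (Fin n) A), map_mul, mul_assoc, mul_comm _ r.1, hr₀, ← map_mul,
        hι]
      rfl
  choose r' hr' w hw hwr using hr
  let I : Ideal (MvPolynomial (Fin n) A) := Ideal.span (Set.range r')
  have hI : I.FG := Submodule.fg_span (Set.finite_range r')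
  let φ : (MvPolynomial (Fin n) A ⧸ I) →ₐ[A] B := Ideal.Quotient.liftₐ I φ₀ fun x hx => by
    refine (Ideal.span_le (I := RingHom.ker φ₀.toRingHom)).2 ?_ hx
    rintro _ ⟨r, rfl⟩
    exact hr' r
  refine ⟨MvPolynomial (Fin n) A ⧸ I, inferInstance, inferInstance,
    Algebra.FinitePresentation.quotient hI, φ, ?_⟩
  let Ψ : L ⊗[A] (MvPolynomial (Fin n) A ⧸ I) →ₐ[L] B' := Algebra.TensorProduct.map (AlgHom.id L L) φ
  suffices h : Function.Bijective Ψ by
    have e : ⇑(φ.toLinearMap.lTensor L) = ⇑Ψ := by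
      funext z
      induction z with
      | zero => simp
      | tmul a c => exact (LinearMap.lTensor_tmul L φ.toLinearMap a c).trans (Algebra.TensorProduct.map_tmul (AlgHom.id L L) φ a c).symm
      | add x y hx hy => simp only [map_add, hx, hy]
    rwa [e]
  let π : MvPolynomial (Fin n) L →ₐ[L] L ⊗[A] (MvPolynomial (Fin n) A ⧸ I) :=
    MvPolynomial.aeval fun i => (1 : L) ⊗ₜ[A] Ideal.Quotient.mk I (MvPolynomial.X i)
  have hπι : ∀ r, π (ι r) = 1 ⊗ₜ Ideal.Quotient.mk I r := fun r => by
    have : (π.restrictScalars A).comp ι = Algebra.TensorProduct.includeRight.comp (Ideal.Quotient.mkₐ A I) := by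
      refine MvPolynomial.algHom_ext fun i => ?_
      simp [ι, π]
    exact AlgHom.congr_fun this r
  have hΨπ : Ψ.comp π = Φ := MvPolynomial.algHom_ext fun i => by
    simp only [π, Φ, AlgHom.comp_apply, MvPolynomial.aeval_X]
    exact (Algebra.TensorProduct.map_tmul (AlgHom.id L L) φ _ _).trans
      (congrArg ((1 : L) ⊗ₜ[A] ·) (MvPolynomial.aeval_X b i))
  have hπ : Function.Surjective π := by
    intro z
    induction z with
    | zero => exact ⟨0, map_zero _⟩
    | tmul a c =>
      obtain ⟨c, rfl⟩ := Ideal.Quotient.mk_surjective c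
      exact ⟨MvPolynomial.C a * ι c, by simp [hπι, π, Algebra.TensorProduct.algebraMap_apply]⟩
    | add x y hx hy =>
      obtain ⟨a, rfl⟩ := hx
      obtain ⟨b, rfl⟩ := hy
      exact ⟨a + b, map_add _ _ _⟩
  refine ⟨(injective_iff_map_eq_zero Ψ).2 fun z hz => ?_, fun y => ?_⟩
  · obtain ⟨P, rfl⟩ := hπ z
    have hP : P ∈ RingHom.ker Φ.toRingHom := (AlgHom.congr_fun hΨπ P).symm.trans hz
    have hP' : P ∈ Ideal.span (R : Set (MvPolynomial (Fin n) L)) := hR.symm ▸ hP
    refine (Ideal.span_le (I := RingHom.ker π.toRingHom)).2 (fun r hr => ?_) hP'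
    have h0 : π (w ⟨r, hr⟩) * π r = 0 := by
      rw [← map_mul, hwr ⟨r, hr⟩, hπι, show Ideal.Quotient.mk I (r' ⟨r, hr⟩) = 0 from
        Ideal.Quotient.eq_zero_iff_mem.2 (Ideal.subset_span ⟨_, rfl⟩), tmul_zero]
    exact (IsUnit.mul_right_eq_zero (M₀ := L ⊗[A] (MvPolynomial (Fin n) A ⧸ I)) (π.toRingHom.isUnit_map (hw ⟨r, hr⟩))).1 h0
  · obtain ⟨P, rfl⟩ := hΦ y
    exact ⟨π P, AlgHom.congr_fun hΨπ P⟩

/-- The etale model. -/
theorem exists_etale_model [Module.Flat A B] [Algebra.Etale B (B ⊗[A] B)] (p : Ideal A) [p.IsPrime]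
    (q : Ideal B) [q.IsPrime] (hq : q.comap (algebraMap A B) = p) :
    ∃ (f : A) (_ : f ∉ p) (C : Type u) (_ : CommRing C) (_ : Algebra A C) (φ : C →ₐ[A] Localization.Away (algebraMap A B f)),
      Algebra.Etale A C ∧ Set.range (PrimeSpectrum.comap (algebraMap A C)) = PrimeSpectrum.basicOpen f ∧
        Function.Bijective (Algebra.TensorProduct.map (AlgHom.id A B) φ) := by
  classical
  let L := Localization.AtPrime p
  have := etale_localization p q hq
  obtain ⟨C, _, _, _, φ, hφ⟩ := exists_fp_model (A := A) (B := B) p.primeCompl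
  let eL : L ⊗[A] C ≃ₐ[L] L ⊗[A] B :=
    AlgEquiv.ofBijective (Algebra.TensorProduct.map (AlgHom.id L L) φ) (by
      have e : ⇑(φ.toLinearMap.lTensor L) = ⇑(Algebra.TensorProduct.map (AlgHom.id L L) φ) := by
        funext z
        induction z with
        | zero => simp
        | tmul a c => simp
        | add x y hx hy => simp only [map_add, hx, hy]
      rwa [← e])
  have : Algebra.Etale L (L ⊗[A] C) := Algebra.Etale.of_equiv eL.symm
  -- every prime of the model whose trace avoids `A ∖ p` is an etale point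
  have het : ∀ Q : PrimeSpectrum C, Q.asIdeal.comap (algebraMap A C) ≤ p → Q ∈ Algebra.etaleLocus A C := fun Q hQ => by
    let _ : Algebra C (L ⊗[A] C) := Algebra.TensorProduct.rightAlgebra
    have : IsLocalization (Algebra.algebraMapSubmonoid C p.primeCompl) (L ⊗[A] C) :=
      IsLocalization.tensorRight (R := A) (S := C) (A := L) p.primeCompl
    have hle : Algebra.algebraMapSubmonoid C p.primeCompl ≤ Q.asIdeal.primeCompl := by
      rintro _ ⟨a, ha, rfl⟩ haQ
      exact ha (hQ haQ)
    let _ : Algebra (L ⊗[A] C) (Localization.AtPrime Q.asIdeal) :=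
      IsLocalization.localizationAlgebraOfSubmonoidLe (L ⊗[A] C) (Localization.AtPrime Q.asIdeal) _ _ hle
    have : IsScalarTower C (L ⊗[A] C) (Localization.AtPrime Q.asIdeal) :=
      IsLocalization.localization_isScalarTower_of_submonoid_le (L ⊗[A] C) (Localization.AtPrime Q.asIdeal) _ _ hle
    have := IsLocalization.isLocalization_of_submonoid_le (L ⊗[A] C) (Localization.AtPrime Q.asIdeal) _ _ hle
    have : IsScalarTower A (L ⊗[A] C) (Localization.AtPrime Q.asIdeal) := .to₁₃₄ A C _ _
    have : Algebra.FormallyEtale (L ⊗[A] C) (Localization.AtPrime Q.asIdeal) :=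
      .of_isLocalization (Q.asIdeal.primeCompl.map (algebraMap C (L ⊗[A] C)))
    have : Algebra.FormallyEtale A L := .of_isLocalization p.primeCompl
    have : Algebra.FormallyEtale A (L ⊗[A] C) := .comp A L _
    exact Algebra.FormallyEtale.comp A (L ⊗[A] C) _
  obtain ⟨J, hJ⟩ := (PrimeSpectrum.isClosed_iff_zeroLocus_ideal _).1
    (Algebra.isOpen_etaleLocus (R := A) (A := C)).isClosed_compl
  obtain ⟨f₁, hf₁, hf₁J⟩ : ∃ f₁, f₁ ∉ p ∧ algebraMap A C f₁ ∈ J.radical := by
    by_contra hne
    obtain ⟨Q, hQ, hJQ, hdisj⟩ := Ideal.exists_le_prime_disjoint (J.radical)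
      (Algebra.algebraMapSubmonoid C p.primeCompl) (Set.disjoint_left.2 fun x hx hx' => by
        obtain ⟨a, ha, rfl⟩ := hx'
        exact hne ⟨a, ha, hx⟩)
    have hQp : Q.comap (algebraMap A C) ≤ p := fun a ha => by
      by_contra hap
      exact Set.disjoint_left.1 hdisj ha ⟨a, hap, rfl⟩
    exact (hJ.symm.le (Ideal.le_radical.trans hJQ : (⟨Q, hQ⟩ : PrimeSpectrum C) ∈ PrimeSpectrum.zeroLocus J))
      (het ⟨Q, hQ⟩ hQp)
  have hsub : ∀ f : A, f₁ ∣ f → (PrimeSpectrum.basicOpen (algebraMap A C f) : Set (PrimeSpectrum C)) ⊆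
      Algebra.etaleLocus A C := fun f hdvd Q hQ => by
    by_contra hQe
    have hQJ : J ≤ Q.asIdeal := fun x hx => hJ.le hQe hx
    obtain ⟨g, rfl⟩ := hdvd
    refine hQ ?_
    rw [map_mul]
    exact Q.asIdeal.mul_mem_right _ ((Ideal.IsPrime.radical_le_iff inferInstance).2 hQJ hf₁J)
  -- the image contains a basic neighbourhood
  obtain ⟨f₂, hf₂, himg⟩ : ∃ f₂, f₂ ∉ p ∧ (PrimeSpectrum.basicOpen f₂ : Set (PrimeSpectrum A)) ⊆
      Set.range (PrimeSpectrum.comap (algebraMap A (Localization.Away (algebraMap A C f₁)))) := by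
    have : Algebra.Etale A (Localization.Away (algebraMap A C f₁)) :=
      Algebra.basicOpen_subset_etaleLocus_iff_etale.1 (hsub f₁ dvd_rfl)
    have hop : IsOpen (Set.range (PrimeSpectrum.comap (algebraMap A (Localization.Away (algebraMap A C f₁))))) :=
      (PrimeSpectrum.isOpenMap_comap_of_hasGoingDown_of_finitePresentation (R := A)
        (S := Localization.Away (algebraMap A C f₁))).isOpen_range
    have hp : (⟨p, inferInstance⟩ : PrimeSpectrum A) ∈
        Set.range (PrimeSpectrum.comap (algebraMap A (Localization.Away (algebraMap A C f₁)))) := by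
      let Q₀ : Ideal C := q.comap φ.toRingHom
      have hQ₀ : Q₀.comap (algebraMap A C) = p := by
        rw [← hq, Ideal.comap_comap]
        exact congrArg (fun ρ => Ideal.comap ρ q) φ.comp_algebraMap
      have hdis : algebraMap A C f₁ ∉ Q₀ := fun h => hf₁ (hQ₀.le h)
      obtain ⟨Q', hQ'⟩ : (⟨Q₀, inferInstance⟩ : PrimeSpectrum C) ∈
          Set.range (PrimeSpectrum.comap (algebraMap C (Localization.Away (algebraMap A C f₁)))) := by
        rw [PrimeSpectrum.localization_away_comap_range _ (algebraMap A C f₁)]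
        exact hdis
      refine ⟨Q', PrimeSpectrum.ext ?_⟩
      rw [show algebraMap A (Localization.Away (algebraMap A C f₁)) =
        (algebraMap C _).comp (algebraMap A C) from IsScalarTower.algebraMap_eq A C _,
        PrimeSpectrum.comap_comp_apply, hQ']
      exact hQ₀
    obtain ⟨_, ⟨_, ⟨f₂, rfl⟩, rfl⟩, hpf, hle⟩ :=
      PrimeSpectrum.isBasis_basic_opens.exists_subset_of_mem_open hp hop
    exact ⟨f₂, hpf, hle⟩
  -- surjectivity of the comparison
  let lin := φ.toLinearMap.lTensor B
  have hloc : Function.Bijective ((φ.toLinearMap.lTensor L).lTensor B) :=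
    (LinearEquiv.lTensor B (LinearEquiv.ofBijective (φ.toLinearMap.lTensor L) hφ)).bijective
  have := isLocalizedModule_lTensor (S := p.primeCompl) B (TensorProduct.mk A L C 1)
  have := isLocalizedModule_lTensor (S := p.primeCompl) B (TensorProduct.mk A L B 1)
  have hw : (φ.toLinearMap.lTensor L).lTensor B ∘ₗ (TensorProduct.mk A L C 1).lTensor B =
      (TensorProduct.mk A L B 1).lTensor B ∘ₗ lin := by
    ext b c
    simp [lin]
  obtain ⟨htor₁, htor₂⟩ := torsion_of_bijective (S := p.primeCompl) _ _ hw hloc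
  obtain ⟨GQ, hGQ⟩ := Algebra.FiniteType.out (R := B) (A := B ⊗[A] B)
  choose σ hσ using htor₁
  let f₀ : A := f₁ * f₂ * ∏ y ∈ GQ, (σ y).1
  have hf₀ : f₀ ∉ p := p.primeCompl.mul_mem (p.primeCompl.mul_mem hf₁ hf₂) (prod_mem fun y _ => (σ y).2)
  let ψ : B ⊗[A] C →ₐ[B] B ⊗[A] B := Algebra.TensorProduct.map (AlgHom.id B B) φ
  have hψ : ∀ z, ψ z = lin z := fun z => by
    induction z with
    | zero => simp
    | tmul a c => simp [ψ, lin]
    | add x y hx hy => simp only [map_add, hx, hy]
  have hsurj : ∀ y : B ⊗[A] B, ∃ k : Submonoid.powers f₀, k • y ∈ LinearMap.range lin := fun y => by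
    have hy : y ∈ Algebra.adjoin B (GQ : Set (B ⊗[A] B)) := hGQ ▸ trivial
    induction hy using Algebra.adjoin_induction with
    | mem y hy =>
      refine ⟨⟨f₀, Submonoid.mem_powers f₀⟩, ?_⟩
      obtain ⟨d, hd⟩ : (σ y).1 ∣ f₀ := (Finset.dvd_prod_of_mem _ hy).mul_left _
      show f₀ • y ∈ _
      rw [hd, mul_comm, mul_smul]
      exact Submodule.smul_mem _ d (hσ y)
    | algebraMap r => exact ⟨1, by rw [one_smul]; exact ⟨algebraMap B _ r, (hψ _).symm.trans (ψ.commutes r)⟩⟩
    | add x y _ _ hx hy =>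
      obtain ⟨k, hk⟩ := hx
      obtain ⟨l, hl⟩ := hy
      refine ⟨k * l, ?_⟩
      simp only [Submonoid.smul_def, Submonoid.coe_mul] at hk hl ⊢
      rw [smul_add]
      refine add_mem ?_ ?_
      · rw [mul_comm, mul_smul]
        exact Submodule.smul_mem _ _ hk
      · rw [mul_smul]
        exact Submodule.smul_mem _ _ hl
    | mul x y _ _ hx hy =>
      obtain ⟨k, v, hv⟩ := hx
      obtain ⟨l, v', hv'⟩ := hy
      refine ⟨k * l, v * v', ?_⟩
      rw [← hψ, map_mul, hψ, hψ, hv, hv', smul_mul_smul_comm]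
  -- the kernel
  let gC := fun f : A => ((IsScalarTower.toAlgHom A C (Localization.Away (algebraMap A C f))).toLinearMap).lTensor B
  let gB := fun f : A => ((IsScalarTower.toAlgHom A B (Localization.Away (algebraMap A B f))).toLinearMap).lTensor B
  have hgC : ∀ f, IsLocalizedModule (Submonoid.powers f) (gC f) := fun f => isLocalizedModule_lTensor B _
  have hgB : ∀ f, IsLocalizedModule (Submonoid.powers f) (gB f) := fun f => isLocalizedModule_lTensor B _
  let ψf := fun f : A => (awayMap φ f).toLinearMap.lTensor B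
  have hwf : ∀ f, ψf f ∘ₗ gC f = gB f ∘ₗ lin := fun f => by
    ext b c
    simp [ψf, gC, gB, lin, awayMap_comp]
  let C₁ := Localization.Away (algebraMap A C f₀)
  let B₁ := Localization.Away (algebraMap A B f₀)
  have : Algebra.Etale A C₁ :=
    Algebra.basicOpen_subset_etaleLocus_iff_etale.1 (hsub f₀ (dvd_mul_of_dvd_left (dvd_mul_right _ _) _))
  let ι₁ : B ⊗[A] B →ₐ[B] B ⊗[A] B₁ := Algebra.TensorProduct.map (AlgHom.id B B) (IsScalarTower.toAlgHom A B B₁)
  let _ : Algebra (B ⊗[A] B) (B ⊗[A] B₁) := ι₁.toRingHom.toAlgebra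
  have : IsScalarTower B (B ⊗[A] B) (B ⊗[A] B₁) := .of_algebraMap_eq fun b => (ι₁.commutes b).symm
  have : IsScalarTower A (B ⊗[A] B) (B ⊗[A] B₁) := .of_algebraMap_eq fun a =>
    ((ι₁.restrictScalars A).commutes a).symm
  have hQloc : IsLocalization.Away (algebraMap A (B ⊗[A] B) f₀) (B ⊗[A] B₁) := by
    rw [IsLocalization.Away, ← Algebra.algebraMapSubmonoid_powers]
    refine isLocalizedModule_iff_isLocalization.1 ?_
    have e : (IsScalarTower.toAlgHom A (B ⊗[A] B) (B ⊗[A] B₁)).toLinearMap = gB f₀ := by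
      refine TensorProduct.ext' fun b c => ?_
      show ι₁ (b ⊗ₜ c) = _
      simp [ι₁, gB]
      rfl
    rw [e]
    exact hgB f₀
  have : Algebra.FinitePresentation (B ⊗[A] B) (B ⊗[A] B₁) :=
    IsLocalization.Away.finitePresentation (algebraMap A (B ⊗[A] B) f₀)
  have : Algebra.FinitePresentation B (B ⊗[A] B₁) := Algebra.FinitePresentation.trans B (B ⊗[A] B) _
  let ψ₁ : B ⊗[A] C₁ →ₐ[B] B ⊗[A] B₁ := Algebra.TensorProduct.map (AlgHom.id B B) (awayMap φ f₀)
  have hψ₁ : ∀ z, ψ₁ z = ψf f₀ z := fun z => by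
    induction z with
    | zero => simp
    | tmul a c => simp [ψ₁, ψf]
    | add x y hx hy => simp only [map_add, hx, hy]
  have hψ₁s : Function.Surjective ψ₁ := fun y => by
    have := hgC f₀
    have := hgB f₀
    obtain ⟨x, hx⟩ := surjective_of_torsion (gC f₀) (gB f₀) (hwf f₀) hsurj y
    exact ⟨x, (hψ₁ x).trans hx⟩
  obtain ⟨G₁, hG₁⟩ := Algebra.FinitePresentation.ker_fG_of_surjective ψ₁ hψ₁s
  have hker : ∀ z : G₁, ∃ s : p.primeCompl, s • z.1 = 0 := fun z => by
    have := hgC f₀
    have := hgB f₀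
    exact exists_smul_eq_zero (S := Submonoid.powers f₀) (gC f₀) (gB f₀) (hwf f₀) htor₂ (x := z.1)
      ((hψ₁ z.1).symm.trans (hG₁.le (Ideal.subset_span z.2)))
  choose τ hτ using hker
  let f₃ : A := ∏ z, (τ z).1
  have hf₃ : f₃ ∉ p := p.primeCompl.prod_mem fun z _ => (τ z).2
  let f : A := f₀ * f₃
  have hf : f ∉ p := p.primeCompl.mul_mem hf₀ hf₃
  have hdvd : f₁ ∣ f := dvd_mul_of_dvd_left (dvd_mul_of_dvd_left (dvd_mul_right _ _) _) _
  have h₁' : ∀ y : B ⊗[A] B, ∃ k : Submonoid.powers f, k • y ∈ LinearMap.range lin := fun y => by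
    obtain ⟨⟨_, k, rfl⟩, hk⟩ := hsurj y
    refine ⟨⟨f ^ k, k, rfl⟩, ?_⟩
    show f ^ k • y ∈ _
    rw [mul_pow, mul_comm, mul_smul]
    exact Submodule.smul_mem _ _ hk
  have h₂' : ∀ z, lin z = 0 → ∃ k : Submonoid.powers f, k • z = 0 := fun z hz => by
    have := hgC f₀
    have hmem : gC f₀ z ∈ Ideal.span (G₁ : Set (B ⊗[A] C₁)) := hG₁.ge (show ψ₁ (gC f₀ z) = 0 by
      rw [hψ₁, ← LinearMap.comp_apply, hwf, LinearMap.comp_apply, hz, map_zero])
    have h0 : f₃ • gC f₀ z = 0 := by
      revert hmem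
      generalize gC f₀ z = x
      intro hmem
      induction hmem using Submodule.span_induction with
      | mem x hx =>
        obtain ⟨d, hd⟩ : (τ ⟨x, hx⟩).1 ∣ f₃ := Finset.dvd_prod_of_mem _ (Finset.mem_univ _)
        rw [hd, mul_comm, mul_smul, show (τ ⟨x, hx⟩).1 • x = 0 from hτ ⟨x, hx⟩, smul_zero]
      | zero => exact smul_zero _
      | add x y _ _ hx hy => rw [smul_add, hx, hy, add_zero]
      | smul r x _ hx => rw [smul_comm, hx, smul_zero]
    obtain ⟨⟨_, m, rfl⟩, hm⟩ := IsLocalizedModule.exists_of_eq (S := Submonoid.powers f₀) (f := gC f₀)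
      (x₁ := f₃ • z) (x₂ := 0) (by rw [map_smul, h0, map_zero])
    refine ⟨⟨f ^ (m + 1), m + 1, rfl⟩, ?_⟩
    show f ^ (m + 1) • z = 0
    have hm' : f₀ ^ m • f₃ • z = 0 := by simpa [Submonoid.smul_def] using hm
    rw [show f ^ (m + 1) = f₀ * f₃ ^ m * (f₀ ^ m * f₃) by ring, mul_smul, mul_smul (f₀ ^ m), hm', smul_zero]
  have := hgC f
  have := hgB f
  have hbij := bijective_of_torsion (gC f) (gB f) (hwf f) h₁' h₂'
  refine ⟨f, hf, Localization.Away (algebraMap A C f), inferInstance, inferInstance, awayMap φ f,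
    Algebra.basicOpen_subset_etaleLocus_iff_etale.1 (hsub f hdvd), ?_, ?_⟩
  · refine Set.Subset.antisymm ?_ fun P hP => ?_
    · rintro _ ⟨Q, rfl⟩ h
      have hu : IsUnit (algebraMap A (Localization.Away (algebraMap A C f)) f) := by
        rw [IsScalarTower.algebraMap_apply A C]
        exact IsLocalization.Away.algebraMap_isUnit (algebraMap A C f)
      exact Q.2.ne_top (Ideal.eq_top_of_isUnit_mem _ h hu)
    · have hP₂ : P ∈ PrimeSpectrum.basicOpen f₂ := fun h => hP (Ideal.mem_of_dvd _
        (dvd_mul_of_dvd_left (dvd_mul_of_dvd_left (dvd_mul_left _ _) _) _) h)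
      obtain ⟨Q, rfl⟩ := himg hP₂
      obtain ⟨Q', hQ'⟩ : PrimeSpectrum.comap (algebraMap C _) Q ∈
          Set.range (PrimeSpectrum.comap (algebraMap C (Localization.Away (algebraMap A C f)))) := by
        rw [PrimeSpectrum.localization_away_comap_range _ (algebraMap A C f)]
        refine fun h => hP ?_
        show algebraMap A (Localization.Away (algebraMap A C f₁)) f ∈ Q.asIdeal
        rw [show algebraMap A (Localization.Away (algebraMap A C f₁)) f = algebraMap C _ (algebraMap A C f) from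
          IsScalarTower.algebraMap_apply A C _ f]
        exact h
      refine ⟨Q', ?_⟩
      rw [show algebraMap A (Localization.Away (algebraMap A C f)) = (algebraMap C _).comp (algebraMap A C) from
          IsScalarTower.algebraMap_eq A C _,
        show algebraMap A (Localization.Away (algebraMap A C f₁)) = (algebraMap C _).comp (algebraMap A C) from
          IsScalarTower.algebraMap_eq A C _, PrimeSpectrum.comap_comp_apply, PrimeSpectrum.comap_comp_apply, hQ']
  · have e : ⇑(Algebra.TensorProduct.map (AlgHom.id A B) (awayMap φ f)) = ⇑(ψf f) := by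
      funext z
      induction z with
      | zero => simp
      | tmul a c => simp [ψf]
      | add x y hx hy => simp only [map_add, hx, hy]
    rw [e]
    exact hbij

end Groth.Agent.FlatMono
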