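import Groth.Agent.FlatMono.Algebra
import Groth.Agent.AlgSpDec.FppfDescent
import Groth.Agent.AlgSpDec.OpenGlue
import Groth.Agent.AlgSpDec.LqfScheme
import Groth.Agent.AlgSpDec.LimOpen
import Groth.Agent.AlgSpDec.LqfSplitShrink
import Groth.Agent.AlgSpPts.OpenSub
import Groth.Agent.AlgSpLib.FpqcDescent
import Groth.Agent.AlgSpLib.Covers
import Groth.Agent.EtFound.Descent

/-!
# Flat monomorphisms of algebraic spaces are representable

Near a point a flat monomorphism to an affine scheme becomes affine after an etale covering of a basic open.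
-/

set_option autoImplicit false
set_option backward.isDefEq.respectTransparency false
set_option backward.isDefEq.respectTransparency.types false
set_option maxHeartbeats 1000000

universe u

open CategoryTheory CategoryTheory.Limits AlgebraicGeometry Opposite AlgSp TensorProduct Groth.Agent.AlgSpLib

namespace Groth.Agent.FlatMono

variable {S : Scheme.{u}}

/-- A morphism of affine schemes over the base. -/
noncomputable def specHom {A B : CommRingCat.{u}} (φ : A ⟶ B) (tS : Spec A ⟶ S) :
    Over.mk (Spec.map φ ≫ tS) ⟶ Over.mk tS := CategoryTheory.Over.homMk (Spec.map φ) rfl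

theorem isPullback_cancel_mono {C : Type*} [Category C] {P X Y Z Z' : C} {p : P ⟶ X} {q : P ⟶ Y} {a : X ⟶ Z}
    {b : Y ⟶ Z} {g : Z ⟶ Z'} [Mono g] (h : IsPullback p q (a ≫ g) (b ≫ g)) : IsPullback p q a b := by
  refine ⟨⟨by rw [← cancel_mono g, Category.assoc, Category.assoc, h.w]⟩, ⟨PullbackCone.IsLimit.mk _
    (fun s => h.lift s.fst s.snd (by rw [reassoc_of% s.condition])) (fun s => h.lift_fst _ _ _)
    (fun s => h.lift_snd _ _ _) fun s m h₁ h₂ => h.hom_ext (by rw [h₁, h.lift_fst]) (by rw [h₂, h.lift_snd])⟩⟩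

theorem fppf_of_etale_surjective {F G : Sp S} {f : F ⟶ G} (he : RepWith @Etale f) (hs : RepWith @Surjective f) :
    RepWith fppf f :=
  ⟨he.rep, fun _ _ g fst snd sq => by
    have : Etale snd.left := he.property g fst snd sq
    have : Surjective snd.left := hs.property g fst snd sq
    exact fppf_of_etale snd.left⟩

/-- Near each point a space with a flat monomorphism to an affine scheme is affine. -/
theorem exists_affine_piece {A B : Type u} [CommRing A] [CommRing B] [Algebra A B] [Module.Flat A B]
    (tS : Spec (CommRingCat.of A) ⟶ S) {P : Sp S} (hP : IsAlgSpace P) (g : P ⟶ (yon S).obj (Over.mk tS)) [Mono g]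
    (a : (yon S).obj (Over.mk (Spec.map (CommRingCat.ofHom (algebraMap A B)) ≫ tS)) ⟶ P)
    (hae : RepWith @Etale a) (has : RepWith @Surjective a)
    (hag : a ≫ g = (yon S).map (specHom (CommRingCat.ofHom (algebraMap A B)) tS)) (x : Points P) :
    ∃ (Q : Over S) (j : (yon S).obj Q ⟶ P), RepWith @IsOpenImmersion j ∧ x ∈ Set.range (Points.ofPt j) := by
  let T : Over S := Over.mk tS
  let U : Over S := Over.mk (Spec.map (CommRingCat.ofHom (algebraMap A B)) ≫ tS)
  let v : U ⟶ T := specHom (CommRingCat.ofHom (algebraMap A B)) tS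
  -- the projection of the relation is etale
  have hE : Algebra.Etale B (B ⊗[A] B) := by
    have sq : IsPullback ((yon S).map (pullback.fst v v)) ((yon S).map (pullback.snd v v)) a a := by
      refine isPullback_cancel_mono (g := g) ?_
      rw [hag]
      exact (IsPullback.of_hasPullback v v).map (yon S)
    have h₁ : Etale (pullback.fst v v).left := (repWith_yon_map_iff _ _).1 (repWith_of_isPullback sq.flip hae)
    have sqR : IsPullback (pullback.fst v v).left (pullback.snd v v).left v.left v.left :=
      (IsPullback.of_hasPullback v v).map (Over.forget S)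
    let e := pullbackSpecIso A B B
    have h₂ : Etale (Spec.map (CommRingCat.ofHom (algebraMap B (B ⊗[A] B)))) := by
      rw [← pullbackSpecIso_inv_fst' A B B, show pullback.fst (Spec.map (CommRingCat.ofHom (algebraMap A B)))
        (Spec.map (CommRingCat.ofHom (algebraMap A B))) = sqR.isoPullback.inv ≫ (pullback.fst v v).left from
          sqR.isoPullback_inv_fst.symm, ← Category.assoc]
      exact MorphismProperty.comp_mem @Etale _ _ inferInstance h₁
    exact RingHom.etale_algebraMap.1 (HasRingHomProperty.Spec_iff.1 h₂)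
  obtain ⟨u₀, rfl⟩ := surjective_ofPt has x
  let q : PrimeSpectrum B := u₀
  obtain ⟨f, hf, C, _, _, φ, hC, hCrange, hbij⟩ := exists_etale_model
    (q.asIdeal.comap (algebraMap A B)) q.asIdeal rfl
  let B' := Localization.Away (algebraMap A B f)
  let Af := Localization.Away f
  -- the objects
  let Tf : Over S := Over.mk (Spec.map (CommRingCat.ofHom (algebraMap A Af)) ≫ tS)
  let ι : Tf ⟶ T := specHom (CommRingCat.ofHom (algebraMap A Af)) tS
  have : IsOpenImmersion ι.left := IsOpenImmersion.of_isLocalization (S := Af) f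
  let V : Over S := Over.mk (Spec.map (CommRingCat.ofHom (algebraMap A C)) ≫ tS)
  let π : V ⟶ T := specHom (CommRingCat.ofHom (algebraMap A C)) tS
  have hπe : Etale π.left := HasRingHomProperty.Spec_iff.2 (RingHom.etale_algebraMap.2 hC)
  have hπrange : Set.range π.left = (PrimeSpectrum.basicOpen f : Set (PrimeSpectrum A)) := hCrange
  have hιrange : Set.range ι.left = (PrimeSpectrum.basicOpen f : Set (PrimeSpectrum A)) :=
    PrimeSpectrum.localization_away_comap_range Af f
  obtain ⟨π', hπ'⟩ : ∃ π' : V ⟶ Tf, π' ≫ ι = π :=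
    AlgSpDec.exists_factor_openImm ι π fun x => by rw [hιrange, ← hπrange]; exact ⟨x, rfl⟩
  have : Etale π'.left := by
    have : Etale (π'.left ≫ ι.left) := by rw [← Over.comp_left, hπ']; exact hπe
    exact IsEtLocal.cancel_right (P := @Etale) π'.left ι.left this
  have : Surjective π'.left := ⟨fun y => by
    obtain ⟨x, hx⟩ : ι.left y ∈ Set.range π.left := by rw [hπrange, ← hιrange]; exact ⟨y, rfl⟩
    refine ⟨x, ι.left.isOpenEmbedding.injective ?_⟩
    rw [← Scheme.Hom.comp_apply, ← Over.comp_left, hπ']
    exact hx⟩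
  let U' : Over S := Over.mk (Spec.map (CommRingCat.ofHom (algebraMap A B')) ≫ tS)
  let j : U' ⟶ U := CategoryTheory.Over.homMk (Spec.map (CommRingCat.ofHom (algebraMap B B'))) (by
    show _ ≫ Spec.map _ ≫ tS = Spec.map _ ≫ tS
    rw [← Spec.map_comp_assoc, ← CommRingCat.ofHom_comp, ← IsScalarTower.algebraMap_eq])
  let i : U' ⟶ V := CategoryTheory.Over.homMk (Spec.map (CommRingCat.ofHom φ.toRingHom)) (by
    show _ ≫ Spec.map _ ≫ tS = Spec.map _ ≫ tS
    rw [← Spec.map_comp_assoc, ← CommRingCat.ofHom_comp,
      show φ.toRingHom.comp (algebraMap A C) = algebraMap A B' from φ.comp_algebraMap])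
  let v' : U' ⟶ T := specHom (CommRingCat.ofHom (algebraMap A B')) tS
  have hjv : j ≫ v = v' := by
    ext1
    show Spec.map _ ≫ Spec.map _ = Spec.map _
    rw [← Spec.map_comp, ← CommRingCat.ofHom_comp, ← IsScalarTower.algebraMap_eq]
  have hiπ : i ≫ π = v' := by
    ext1
    show Spec.map _ ≫ Spec.map _ = Spec.map _
    rw [← Spec.map_comp, ← CommRingCat.ofHom_comp,
      show φ.toRingHom.comp (algebraMap A C) = algebraMap A B' from φ.comp_algebraMap]
  let a' : (yon S).obj U' ⟶ P := (yon S).map j ≫ a
  have ha'g : a' ≫ g = (yon S).map (i ≫ π) := by rw [Category.assoc, hag, ← Functor.map_comp, hjv, hiπ]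
  -- the fibre product
  let W := pullback g ((yon S).map π)
  have hW : IsAlgSpace W :=
    isAlgSpace_pullback hP (IsAlgSpace.yon_obj V) (IsAlgSpace.yon_obj T) g _
  let k : (yon S).obj U' ⟶ W := pullback.lift a' ((yon S).map i) (by rw [ha'g, Functor.map_comp])
  let UV := pullback v π
  let c : (yon S).obj UV ⟶ W := pullback.lift ((yon S).map (pullback.fst v π) ≫ a) ((yon S).map (pullback.snd v π))
    (by rw [Category.assoc, hag, ← Functor.map_comp, pullback.condition, Functor.map_comp])
  have sqc : IsPullback c ((yon S).map (pullback.fst v π)) (pullback.fst g ((yon S).map π)) a := by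
    refine (IsPullback.of_bot (v₂₁ := pullback.snd g ((yon S).map π)) (v₂₂ := g) (h₃₁ := (yon S).map π) ?_
      (pullback.lift_fst _ _ _).symm (IsPullback.of_hasPullback g ((yon S).map π))).flip
    rw [pullback.lift_snd, hag]
    exact (IsPullback.of_hasPullback v π).map (yon S)
  let UU := pullback v v'
  let h : UU ⟶ UV := pullback.map v v' v π (𝟙 _) i (𝟙 _) (by simp) (by rw [Category.comp_id, hiπ])
  have sqk : IsPullback ((yon S).map (pullback.snd v v')) ((yon S).map h) k c := by
    refine IsPullback.of_bot (v₂₁ := (yon S).map (pullback.fst v π)) (v₂₂ := pullback.fst g ((yon S).map π))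
      (h₃₁ := a) ?_ ?_ sqc
    · rw [← Functor.map_comp, show h ≫ pullback.fst v π = pullback.fst v v' from
        (pullback.lift_fst _ _ _).trans (Category.comp_id _), pullback.lift_fst]
      refine isPullback_cancel_mono (g := g) ?_
      rw [ha'g, hag, hiπ]
      exact ((IsPullback.of_hasPullback v v').map (yon S)).flip
    · apply pullback.hom_ext
      · rw [Category.assoc, Category.assoc, pullback.lift_fst, pullback.lift_fst]
        rw [← cancel_mono g]
        simp only [Category.assoc, hag, ha'g, hiπ, ← Functor.map_comp]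
        rw [show h ≫ pullback.fst v π ≫ v = pullback.fst v v' ≫ v by
          rw [← Category.assoc, show h ≫ pullback.fst v π = pullback.fst v v' from
            (pullback.lift_fst _ _ _).trans (Category.comp_id _)], pullback.condition]
      · rw [Category.assoc, Category.assoc, pullback.lift_snd, pullback.lift_snd, ← Functor.map_comp,
          ← Functor.map_comp, show h ≫ pullback.snd v π = pullback.snd v v' ≫ i from pullback.lift_snd _ _ _]
  have hhiso : IsIso h.left := by
    let F₁ := Spec.map (CommRingCat.ofHom (Algebra.TensorProduct.map (AlgHom.id A B) φ).toRingHom)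
    have : IsIso (CommRingCat.ofHom (Algebra.TensorProduct.map (AlgHom.id A B) φ).toRingHom) :=
      (ConcreteCategory.isIso_iff_bijective _).2 hbij
    have sUU : IsPullback (pullback.fst v v').left (pullback.snd v v').left v.left v'.left :=
      (IsPullback.of_hasPullback v v').map (Over.forget S)
    have sUV : IsPullback (pullback.fst v π).left (pullback.snd v π).left v.left π.left :=
      (IsPullback.of_hasPullback v π).map (Over.forget S)
    have : h.left = (sUU.isoPullback.hom ≫ (pullbackSpecIso A B B').hom) ≫ F₁ ≫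
        ((pullbackSpecIso A B C).inv ≫ sUV.isoPullback.inv) := by
      refine sUV.hom_ext ?_ ?_
      · rw [← Over.comp_left, show h ≫ pullback.fst v π = pullback.fst v v' from
          (pullback.lift_fst _ _ _).trans (Category.comp_id _)]
        simp only [Category.assoc, IsPullback.isoPullback_inv_fst]
        erw [pullbackSpecIso_inv_fst]
        rw [← Spec.map_comp, ← CommRingCat.ofHom_comp,
          show (Algebra.TensorProduct.map (AlgHom.id A B) φ).toRingHom.comp Algebra.TensorProduct.includeLeftRingHom =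
            Algebra.TensorProduct.includeLeftRingHom from RingHom.ext fun b => by simp]
        erw [pullbackSpecIso_hom_fst, IsPullback.isoPullback_hom_fst]
      · rw [← Over.comp_left, show h ≫ pullback.snd v π = pullback.snd v v' ≫ i from pullback.lift_snd _ _ _,
          Over.comp_left]
        simp only [Category.assoc, IsPullback.isoPullback_inv_snd]
        erw [pullbackSpecIso_inv_snd]
        rw [← Spec.map_comp, ← CommRingCat.ofHom_comp]
        have e : (Algebra.TensorProduct.map (AlgHom.id A B) φ).toRingHom.comp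
            (Algebra.TensorProduct.includeRight : C →ₐ[A] B ⊗[A] C).toRingHom =
            (Algebra.TensorProduct.includeRight : B' →ₐ[A] B ⊗[A] B').toRingHom.comp φ.toRingHom :=
          RingHom.ext fun c => Algebra.TensorProduct.map_tmul (AlgHom.id A B) φ 1 c
        erw [e]
        rw [CommRingCat.ofHom_comp, Spec.map_comp]
        erw [pullbackSpecIso_hom_snd_assoc, IsPullback.isoPullback_hom_snd_assoc]
        rfl
    rw [this]
    infer_instance
  have : IsIso h := by
    have : IsIso ((Over.forget S).map h) := hhiso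
    exact isIso_of_reflects_iso h (Over.forget S)
  have hce : RepWith @Etale c := repWith_of_isPullback sqc.flip hae
  have hcs : RepWith @Surjective c := repWith_of_isPullback sqc.flip has
  have hcov : IsFpqcCover (fun _ : PUnit.{u + 1} => (yon S).obj UV) (fun _ => c) :=
    isFpqcCover_of_isFppfCover hW (fun _ => IsAlgSpace.yon_obj _) _
      ⟨fun _ => ⟨locP_of_repWith (repWith_mono (P := @Etale) (Q := @Flat)
          (fun _ _ e (_ : Etale e) => inferInstanceAs (Flat e)) _ hce),
        locP_of_repWith (repWith_mono (P := @Etale) (Q := @LocallyOfFinitePresentation)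
          (fun _ _ e (_ : Etale e) => inferInstanceAs (LocallyOfFinitePresentation e)) _ hce)⟩,
        fun w => by
          obtain ⟨z, hz⟩ := surjective_map_of_repWith hcs w
          exact ⟨PUnit.unit, z, hz⟩⟩
  have : IsIso k := isIso_of_fpqc (IsAlgSpace.yon_obj U') hW (fun _ => IsAlgSpace.yon_obj _)
    (fun _ => IsAlgSpace.yon_obj _) hcov (fun _ => sqk) fun _ => inferInstance
  have sqF : IsPullback a' ((yon S).map i) g ((yon S).map π) :=
    IsPullback.of_iso_pullback ⟨by rw [ha'g, Functor.map_comp]⟩ (asIso k) (pullback.lift_fst _ _ _)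
      (pullback.lift_snd _ _ _)
  -- the piece over the basic open
  let Xf := pullback g ((yon S).map ι)
  let a'' : (yon S).obj U' ⟶ Xf := pullback.lift a' ((yon S).map (i ≫ π'))
    (by rw [ha'g, ← Functor.map_comp, Category.assoc, hπ'])
  have sqX : IsPullback a'' ((yon S).map i) (pullback.snd g ((yon S).map ι)) ((yon S).map π') := by
    refine IsPullback.of_right ?_ ((pullback.lift_snd _ _ _).trans (Functor.map_comp _ _ _))
      (IsPullback.of_hasPullback g ((yon S).map ι))
    rw [pullback.lift_fst, ← Functor.map_comp, hπ']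
    exact sqF
  have : IsAffine U'.left := inferInstanceAs (IsAffine (Spec _))
  have : IsAffine V.left := inferInstanceAs (IsAffine (Spec _))
  have : IsAffine Tf.left := inferInstanceAs (IsAffine (Spec _))
  have := EtFound.fpqc_isAffineHom.{u}
  have hXf : RepWith @IsAffineHom (pullback.snd g ((yon S).map ι)) :=
    AlgSpDec.Fppf.repWith_of_fppf_cover (P := @IsAffineHom) le_rfl
      (fppf_of_etale_surjective ((repWith_yon_map_iff _ _).2 ‹Etale π'.left›)
        ((repWith_yon_map_iff _ _).2 ‹Surjective π'.left›)) sqX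
      ((repWith_yon_map_iff _ _).2 (inferInstanceAs (IsAffineHom i.left)))
  let Q := hXf.rep.pullback (𝟙 _)
  have : IsIso (hXf.rep.fst (𝟙 _)) := (hXf.rep.isPullback (𝟙 _)).isIso_fst_of_isIso
  have hι : RepWith @IsOpenImmersion (pullback.fst g ((yon S).map ι)) :=
    repWith_of_isPullback (IsPullback.of_hasPullback g ((yon S).map ι)).flip
      ((repWith_yon_map_iff _ _).2 ‹IsOpenImmersion ι.left›)
  refine ⟨Q, hXf.rep.fst (𝟙 _) ≫ pullback.fst g ((yon S).map ι),
    repWith_comp (repWith_of_isIso _ _) hι, ?_⟩
  obtain ⟨y, hy⟩ : ι.left.base ⁻¹' {v.left u₀} |>.Nonempty := by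
    obtain ⟨y, hy⟩ : v.left u₀ ∈ Set.range ι.left := by rw [hιrange]; exact hf
    exact ⟨y, hy⟩
  have hmap : Points.map g (Points.ofPt a u₀) = Points.map ((yon S).map ι) (Points.ofScheme Tf y) := by
    rw [Points.map_ofPt, hag]
    exact (Points.ofPt_eq_map_ofScheme ((yon S).map v) u₀).trans ((Points.map_yon_map_apply v u₀).trans
      ((congrArg (Points.ofScheme T) hy.symm).trans (Points.map_yon_map_apply ι y).symm))
  obtain ⟨z, hz, -⟩ := exists_point_of_isPullback (IsPullback.of_hasPullback g ((yon S).map ι)) hmap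
  obtain ⟨w, hw⟩ := (Points.schemeHomeo Q).surjective (Points.map (inv (hXf.rep.fst (𝟙 _))) z)
  refine ⟨w, ?_⟩
  rw [Points.ofPt_eq_map_ofScheme, show Points.ofScheme Q w = Points.schemeHomeo Q w from rfl, hw, ← Points.map_comp,
    IsIso.inv_hom_id_assoc, hz]

/-- Flat monomorphisms are representable. -/
theorem representable_of_flat_mono {X Y : Sp S} (hX : IsAlgSpace X) (hY : IsAlgSpace Y) (g : X ⟶ Y)
    (hg : LocP @Flat g) [Mono g] : Representable g := by
  intro T t
  let P := pullback g t
  let p : P ⟶ (yon S).obj T := pullback.snd g t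
  have hP : IsAlgSpace P := isAlgSpace_pullback hX (IsAlgSpace.yon_obj T) hY g t
  have hp : LocP @Flat p := locP_of_isPullback (IsPullback.of_hasPullback g t) hX hY (IsAlgSpace.yon_obj T) hg
  obtain ⟨U₀, a₀, ha₀, has₀⟩ := hP.atlas
  obtain ⟨v₀, hv₀⟩ := (yon S).map_surjective (a₀ ≫ p)
  have hfl : Flat v₀.left := hp a₀ (𝟙 _) v₀ ha₀ (repWith_id _ T) (by rw [Category.comp_id, hv₀])
  have key : ∀ x : U₀.left, ∃ (Q : Over S) (j : (yon S).obj Q ⟶ P), RepWith @IsOpenImmersion j ∧
      Points.ofPt a₀ x ∈ Set.range (Points.ofPt j) := fun x => by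
    obtain ⟨T₀, hT₀, hxT, -⟩ := exists_isAffineOpen_mem_and_subset (U := (⊤ : T.left.Opens)) (x := v₀.left x) trivial
    obtain ⟨U₁, hU₁, hxU, hUT⟩ := exists_isAffineOpen_mem_and_subset (U := v₀.left ⁻¹ᵁ T₀) (x := x) hxT
    let φ := v₀.left.appLE T₀ U₁ hUT
    algebraize [φ.hom]
    have : Module.Flat Γ(T.left, T₀) Γ(U₀.left, U₁) := v₀.left.flat_appLE hT₀ hU₁ hUT
    let tS : Spec Γ(T.left, T₀) ⟶ S := hT₀.fromSpec ≫ T.hom
    let T' : Over S := Over.mk tS
    let oT : T' ⟶ T := CategoryTheory.Over.homMk hT₀.fromSpec rfl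
    let U' : Over S := Over.mk (Spec.map φ ≫ tS)
    let oU : U' ⟶ U₀ := CategoryTheory.Over.homMk hU₁.fromSpec (by
      show _ = Spec.map φ ≫ hT₀.fromSpec ≫ T.hom
      rw [← Category.assoc, IsAffineOpen.SpecMap_appLE_fromSpec v₀.left hT₀ hU₁ hUT, Category.assoc, Over.w v₀])
    let v' : U' ⟶ T' := specHom φ tS
    have hov : oU ≫ v₀ = v' ≫ oT := Over.OverMorphism.ext (IsAffineOpen.SpecMap_appLE_fromSpec v₀.left hT₀ hU₁ hUT).symm
    let a₁ : (yon S).obj U' ⟶ P := (yon S).map oU ≫ a₀
    have ha₁ : RepWith @Etale a₁ :=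
      repWith_comp ((repWith_yon_map_iff _ _).2 (inferInstanceAs (Etale hU₁.fromSpec))) ha₀
    have hopen : IsOpen (Set.range (Points.ofPt a₁)) := by
      rw [← Set.image_univ]
      exact isOpenMap_ofPt ha₁ _ isOpen_univ
    obtain ⟨P', j, hP', hj, hjr⟩ := AlgSpPts.exists_open_subspace hP hopen
    obtain ⟨a', ha'⟩ := AlgSpDec.exists_factor_open hj a₁ fun w => by rw [hjr]; exact ⟨w, rfl⟩
    have hjm : Mono j := AlgSpDec.mono_of_openImm hj
    have ha'e : RepWith @Etale a' := repWith_etale_of_comp a' j (by rw [ha']; exact ha₁)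
      (repWith_mono (P := @IsOpenImmersion) (Q := @Etale)
        (fun _ _ e (_ : IsOpenImmersion e) => inferInstanceAs (Etale e)) _ hj)
    have ha's : RepWith @Surjective a' := repWith_surjective_of_surjective ha'e.rep fun z => by
      obtain ⟨w, hw⟩ : Points.map j z ∈ Set.range (Points.ofPt a₁) := hjr ▸ ⟨z, rfl⟩
      refine ⟨Points.ofScheme U' w, AlgSpDec.injective_points_map_of_mono j ?_⟩
      rw [← Points.map_comp, ha', ← hw, Points.ofPt_eq_map_ofScheme]
    -- factor through the affine open
    have hoT : RepWith @IsOpenImmersion ((yon S).map oT) :=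
      (repWith_yon_map_iff _ _).2 (inferInstanceAs (IsOpenImmersion hT₀.fromSpec))
    have hoTm : Mono ((yon S).map oT) := AlgSpDec.mono_of_openImm hoT
    have hep : Epi a' := epi_of_etale_surjective ha'e ha's
    have hiso : IsIso (pullback.fst (j ≫ p) ((yon S).map oT)) := by
      have hl : Sheaf.IsLocallySurjective a' := isLocallySurjective_of_etale_surjective ha'e ha's
      have hw : a' ≫ j ≫ p = (yon S).map v' ≫ (yon S).map oT := by
        rw [reassoc_of% ha', show a₁ ≫ p = (yon S).map oU ≫ a₀ ≫ p from Category.assoc _ _ _, ← hv₀, ← Functor.map_comp, ← Functor.map_comp, hov]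
      have : Epi (pullback.fst (j ≫ p) ((yon S).map oT)) :=
        epi_of_epi_fac (pullback.lift_fst a' ((yon S).map v') hw)
      exact isIso_of_mono_of_epi _
    let g' : P' ⟶ (yon S).obj T' := inv (pullback.fst (j ≫ p) ((yon S).map oT)) ≫ pullback.snd _ _
    have hg' : g' ≫ (yon S).map oT = j ≫ p := by
      rw [Category.assoc, ← pullback.condition, IsIso.inv_hom_id_assoc]
    have hpm : Mono (j ≫ p) := by
      have : Mono p := inferInstance
      exact mono_comp _ _
    have : Mono g' := by
      have : Mono (g' ≫ (yon S).map oT) := by rw [hg']; exact hpm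
      exact mono_of_mono g' ((yon S).map oT)
    obtain ⟨w₀, hw₀⟩ : x ∈ Set.range hU₁.fromSpec := by
      rw [hU₁.range_fromSpec]; exact hxU
    obtain ⟨Q, jQ, hjQ, hx⟩ := exists_affine_piece (A := Γ(T.left, T₀)) (B := Γ(U₀.left, U₁)) tS hP' g' a' ha'e ha's
      (by
        rw [← cancel_mono ((yon S).map oT), Category.assoc, hg', reassoc_of% ha', show a₁ ≫ p = (yon S).map oU ≫ a₀ ≫ p from Category.assoc _ _ _, ← hv₀, ← Functor.map_comp,
          ← Functor.map_comp, hov]
        rfl)
      (Points.ofPt a' w₀)
    obtain ⟨w, hw⟩ := hx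
    refine ⟨Q, jQ ≫ j, repWith_comp hjQ hj, w, ?_⟩
    rw [← Points.map_ofPt, hw, Points.map_ofPt, ha', ofPt_comp]
    exact congrArg (Points.ofPt a₀) hw₀
  choose Q j hj hjx using key
  obtain ⟨Q', ⟨e⟩, -⟩ := AlgSpDec.exists_iso_of_open_cover Q j hj fun z => by
    obtain ⟨x, rfl⟩ := surjective_ofPt has₀ z
    exact ⟨x, hjx x⟩
  obtain ⟨s, hs⟩ := (yon S).map_surjective (e.hom ≫ pullback.snd g t)
  refine ⟨Q', s, e.hom ≫ pullback.fst g t, ?_⟩
  rw [hs]
  exact (IsPullback.of_hasPullback g t).of_iso e.symm (Iso.refl _) (Iso.refl _) (Iso.refl _)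
    (by simp) (by simp) (by simp) (by simp)

end Groth.Agent.FlatMono
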